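import Mathlib
import Cfsg.Agent.Lib.Linear.AutPSp.Basic

/-!
# Two generators of the symplectic group of dimension at least six

A transvection times a commuting element of a Levi factor, and the signed cycle of all basis vectors. The vectors whose
full transvection groups lie in the generated subgroup are closed under the subgroup and under non-orthogonal spans, and
one linking vector between neighbouring hyperbolic planes makes them everything.
-/

set_option autoImplicit false
set_option linter.unusedSectionVars false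

namespace Cfsg.Lib.Linear.TwoGen

open Matrix Module Cfsg.Lib.Linear.Symp Cfsg.Lib.Linear.AutPSp

variable {m n : ℕ} {F : Type*} [Field F]

/-- The `i`-th vector of the first Lagrangian. -/
def eV (i : Fin m) : Fin m ⊕ Fin m → F := Pi.single (.inl i) 1

/-- The `i`-th vector of the second Lagrangian. -/
def fV (i : Fin m) : Fin m ⊕ Fin m → F := Pi.single (.inr i) 1

theorem one_ne_two : (1 : Fin (n + 3)) ≠ 2 := by
  rw [Ne, Fin.ext_iff, Fin.val_two, Fin.val_one]; omega

theorem zero_ne_two : (0 : Fin (n + 3)) ≠ 2 := by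
  rw [Ne, Fin.ext_iff, Fin.val_two, Fin.val_zero]; omega

theorem spB_sum (u v : Fin m ⊕ Fin m → F) :
    spB m F u v = ∑ i, (u (.inr i) * v (.inl i) - u (.inl i) * v (.inr i)) := by
  rw [spB_apply, Cfsg.sympForm, dotProduct, Fintype.sum_sum_type, Finset.sum_sub_distrib]
  simp [Matrix.J, Matrix.mulVec, dotProduct, Fintype.sum_sum_type, Matrix.one_apply]
  ring

theorem spB_eV_right (x : Fin m ⊕ Fin m → F) (i : Fin m) : spB m F x (eV i) = x (.inr i) := by
  rw [spB_sum, Finset.sum_eq_single i]
  · simp [eV]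
  · intro b _ hb; simp [eV, Pi.single_apply, hb]
  · intro h; exact absurd (Finset.mem_univ i) h

theorem spB_fV_right (x : Fin m ⊕ Fin m → F) (i : Fin m) : spB m F x (fV i) = -x (.inl i) := by
  rw [spB_sum, Finset.sum_eq_single i]
  · simp [fV]
  · intro b _ hb; simp [fV, Pi.single_apply, hb]
  · intro h; exact absurd (Finset.mem_univ i) h

/-- A linear map preserving the form, as a symplectic matrix. -/
def mkSp (φ : (Fin m ⊕ Fin m → F) →ₗ[F] (Fin m ⊕ Fin m → F))
    (h : ∀ u v, spB m F (φ u) (φ v) = spB m F u v) : ↥(Matrix.symplecticGroup (Fin m) F) :=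
  ⟨LinearMap.toMatrix' φ, (mem_symplecticGroup_iff _).2 fun u v => by
    rw [← Matrix.toLin'_apply, ← Matrix.toLin'_apply, Matrix.toLin'_toMatrix', h]⟩

theorem mkSp_mulVec (φ : (Fin m ⊕ Fin m → F) →ₗ[F] (Fin m ⊕ Fin m → F))
    (h : ∀ u v, spB m F (φ u) (φ v) = spB m F u v) (x : Fin m ⊕ Fin m → F) : (mkSp φ h).1 *ᵥ x = φ x := by
  show LinearMap.toMatrix' φ *ᵥ x = φ x
  rw [← Matrix.toLin'_apply, Matrix.toLin'_toMatrix']

theorem closure_tS_top :
    Subgroup.closure {t : ↥(Matrix.symplecticGroup (Fin m) F) | ∃ v c, t = tS v c} = ⊤ := by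
  refine Subgroup.map_injective (f := (spEquiv (m := m) (F := F)).toMonoidHom) (spEquiv (m := m)).injective ?_
  rw [MonoidHom.map_closure, ← MonoidHom.range_eq_map, MonoidHom.range_eq_top.2 (spEquiv (m := m)).surjective,
    ← closure_tvG (spB_nondegenerate m F) (spB_isAlt m F)]
  congr 1
  have key : ∀ v c, spEquiv (tS (m := m) v c) = tvG (spB_isAlt m F) v (c : F) := fun v c =>
    Subtype.ext (LinearEquiv.ext fun x => by
      rw [spEquiv_apply, tS_mulVec]; rfl)
  ext t
  constructor
  · rintro ⟨_, ⟨v, c, rfl⟩, rfl⟩; exact ⟨v, c, key v c⟩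
  · rintro ⟨v, c, rfl⟩; exact ⟨_, ⟨v, c, rfl⟩, key v c⟩

/-- A square of a generator of the multiplicative group generates the field. -/
theorem closure_sq_top [Fintype F] {γ : Fˣ} (hγ : orderOf γ = Fintype.card F - 1) :
    Subfield.closure ({(γ : F) ^ 2} : Set F) = ⊤ := by
  classical
  set k := Subfield.closure ({(γ : F) ^ 2} : Set F) with hk
  by_contra hne
  have hcard : Fintype.card F = Fintype.card k ^ finrank k F := Module.card_eq_pow_finrank
  have h2 : 2 ≤ finrank k F := by
    by_contra hlt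
    have h1 : Fintype.card F ≤ Fintype.card k := by
      have hk1 : 1 ≤ Fintype.card k := Fintype.card_pos
      rcases (show finrank k F = 0 ∨ finrank k F = 1 by omega) with e | e <;> rw [e] at hcard <;> simp at hcard <;> omega
    apply hne
    ext a
    simp only [Subfield.mem_top, iff_true]
    have hb := (Fintype.bijective_iff_injective_and_card (Subtype.val : k → F)).2
      ⟨Subtype.val_injective, le_antisymm (Fintype.card_le_of_injective _ Subtype.val_injective) h1⟩
    obtain ⟨⟨b, hb'⟩, rfl⟩ := hb.2 a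
    exact hb'
  have hsq : Fintype.card k ^ 2 ≤ Fintype.card F := by
    rw [hcard]; exact Nat.pow_le_pow_right Fintype.card_pos h2
  have hk2 : 2 ≤ Fintype.card k := Fintype.one_lt_card
  let g : k := ⟨(γ : F) ^ 2, Subfield.subset_closure (Set.mem_singleton _)⟩
  have hg : g ≠ 0 := fun h => by simpa [g] using congrArg Subtype.val h
  have h3 : g ^ (Fintype.card k - 1) = 1 := FiniteField.pow_card_sub_one_eq_one g hg
  have h4 : γ ^ (2 * (Fintype.card k - 1)) = 1 := by
    ext
    rw [Units.val_pow_eq_pow_val, Units.val_one, pow_mul]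
    simpa [g] using congrArg Subtype.val h3
  have h5 := orderOf_dvd_of_pow_eq_one h4
  rw [hγ] at h5
  have h6 := Nat.le_of_dvd (by omega) h5
  nlinarith [Nat.sub_add_cancel (show 1 ≤ Fintype.card k by omega),
    Nat.sub_add_cancel (show 1 ≤ Fintype.card F by linarith [Fintype.card_pos (α := F)])]

section Closure

variable (H : Subgroup ↥(Matrix.symplecticGroup (Fin m) F))

/-- All transvections in this vector lie in the subgroup. -/
def Wv (v : Fin m ⊕ Fin m → F) : Prop := ∀ c : F, tS v c ∈ H

variable {H}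

theorem Wv.map {v : Fin m ⊕ Fin m → F} (hv : Wv H v) {g : ↥(Matrix.symplecticGroup (Fin m) F)} (hg : g ∈ H) :
    Wv H (g.1 *ᵥ v) := fun c => by
  rw [← conj_tS]; exact mul_mem (mul_mem hg (hv c)) (inv_mem hg)

theorem Wv.smul {v : Fin m ⊕ Fin m → F} (hv : Wv H v) (a : F) : Wv H (a • v) := fun c => by
  rw [tS_smul]; exact hv _

theorem Wv.zero : Wv H (0 : Fin m ⊕ Fin m → F) := fun c => by
  have : tS (0 : Fin m ⊕ Fin m → F) c = 1 := sp_ext fun x => by rw [tS_mulVec]; simp
  rw [this]; exact one_mem H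

theorem Wv.neg {v : Fin m ⊕ Fin m → F} (hv : Wv H v) : Wv H (-v) := by simpa using hv.smul (-1)

theorem Wv.span {v w : Fin m ⊕ Fin m → F} (hv : Wv H v) (hw : Wv H w) (h : spB m F w v ≠ 0) (a b : F) :
    Wv H (a • w + b • v) := by
  rcases eq_or_ne a 0 with rfl | ha
  · simpa using hv.smul b
  have e : (tS v (b / (a * spB m F w v))).1 *ᵥ (a • w) = a • w + b • v := by
    rw [tS_mulVec, map_smul, LinearMap.smul_apply, smul_eq_mul]
    congr 2
    field_simp
  rw [← e]
  exact (hw.smul a).map (hv _)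

/-- Supported on the indices in `I`. -/
def Supp (I : Finset (Fin m)) (v : Fin m ⊕ Fin m → F) : Prop := ∀ i, i ∉ I → v (.inl i) = 0 ∧ v (.inr i) = 0

theorem supp_disjoint {I J : Finset (Fin m)} (hIJ : Disjoint I J) {u v : Fin m ⊕ Fin m → F} (hu : Supp I u)
    (hv : Supp J v) : spB m F u v = 0 := by
  rw [spB_sum]
  refine Finset.sum_eq_zero fun i _ => ?_
  by_cases hi : i ∈ I
  · obtain ⟨a, b⟩ := hv i (Finset.disjoint_left.1 hIJ hi)
    rw [a, b]; ring
  · obtain ⟨a, b⟩ := hu i hi
    rw [a, b]; ring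

/-- The subgroup moves a vector of a full coordinate subspace to any other, fixing the orthogonal vectors. -/
theorem exists_move {I : Finset (Fin m)} (hI : ∀ v, Supp I v → Wv H v) {s s' : Fin m ⊕ Fin m → F} (hs : Supp I s)
    (hs' : Supp I s') (h0 : s ≠ 0) (h0' : s' ≠ 0) :
    ∃ g ∈ H, g.1 *ᵥ s = s' ∧ ∀ x, (∀ u, Supp I u → spB m F x u = 0) → g.1 *ᵥ x = x := by
  have sadd : ∀ u v : Fin m ⊕ Fin m → F, Supp I u → Supp I v → Supp I (u + v) := fun u v hu hv i hi => by
    simp [hu i hi, hv i hi]
  have ssub : ∀ u v : Fin m ⊕ Fin m → F, Supp I u → Supp I v → Supp I (v - u) := fun u v hu hv i hi => by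
    simp [hu i hi, hv i hi]
  have one : ∀ {s s' : Fin m ⊕ Fin m → F}, Supp I s → Supp I s' → spB m F s s' ≠ 0 →
      ∃ g ∈ H, g.1 *ᵥ s = s' ∧ ∀ x, (∀ u, Supp I u → spB m F x u = 0) → g.1 *ᵥ x = x := by
    intro s s' hs hs' hB
    refine ⟨tS (s' - s) (spB m F s s')⁻¹, hI _ (ssub s s' hs hs') _, ?_, fun x hx => ?_⟩
    · rw [tS_mulVec, map_sub, form_self, sub_zero, inv_mul_cancel₀ hB, one_smul, add_sub_cancel]
    · rw [tS_mulVec, hx _ (ssub s s' hs hs'), mul_zero, zero_smul, add_zero]
  have partner : ∀ {s : Fin m ⊕ Fin m → F}, Supp I s → s ≠ 0 → ∃ u, Supp I u ∧ spB m F s u ≠ 0 := by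
    intro s hs h0
    obtain ⟨k, hk⟩ := Function.ne_iff.1 h0
    rcases k with i | i
    · have hi : i ∈ I := by
        by_contra hi; exact hk (hs i hi).1
      refine ⟨fV i, fun j hj => ?_, by rw [spB_fV_right]; simpa using hk⟩
      have : j ≠ i := fun e => hj (e ▸ hi)
      simp [fV, Pi.single_apply, this]
    · have hi : i ∈ I := by
        by_contra hi; exact hk (hs i hi).2
      refine ⟨eV i, fun j hj => ?_, by rw [spB_eV_right]; simpa using hk⟩
      have : j ≠ i := fun e => hj (e ▸ hi)
      simp [eV, Pi.single_apply, this]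
  obtain ⟨x, hx, hsx⟩ := partner hs h0
  obtain ⟨y, hy, hsy⟩ := partner hs' h0'
  obtain ⟨u, hu, h1, h2⟩ : ∃ u, Supp I u ∧ spB m F s u ≠ 0 ∧ spB m F u s' ≠ 0 := by
    have hy' : spB m F y s' ≠ 0 := fun e => hsy (form_eq_zero_comm.1 e)
    by_cases a : spB m F x s' = 0
    · by_cases b : spB m F s y = 0
      · refine ⟨x + y, sadd x y hx hy, ?_, ?_⟩
        · rw [map_add, b, add_zero]; exact hsx
        · rw [map_add, LinearMap.add_apply, a, zero_add]; exact hy'
      · exact ⟨y, hy, b, hy'⟩
    · exact ⟨x, hx, hsx, a⟩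
  obtain ⟨g₁, hg₁, e₁, f₁⟩ := one hs hu h1
  obtain ⟨g₂, hg₂, e₂, f₂⟩ := one hu hs' h2
  exact ⟨g₂ * g₁, mul_mem hg₂ hg₁, by rw [coe_mul_mulVec, e₁, e₂],
    fun x hx => by rw [coe_mul_mulVec, f₁ x hx, f₂ x hx]⟩

theorem eq_add_of_supp {i : Fin m} {v : Fin m ⊕ Fin m → F} (hv : Supp {i} v) :
    v = v (.inl i) • eV i + v (.inr i) • fV i := by
  funext k
  rcases k with j | j <;> rcases eq_or_ne j i with rfl | hj <;>
    simp [eV, fV, Pi.single_apply, *, hv j, Finset.mem_singleton]

/-- Full planes and linking vectors give everything. -/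
theorem eq_top_of_links (he : ∀ i, Wv H (eV i : Fin m ⊕ Fin m → F)) (hf : ∀ i, Wv H (fV i : Fin m ⊕ Fin m → F))
    (hlink : ∀ i j : Fin m, (j : ℕ) = i + 1 → ∃ c d : F, c ≠ 0 ∧ d ≠ 0 ∧ Wv H (c • eV i + d • eV j)) : H = ⊤ := by
  classical
  suffices hall : ∀ v, Wv H v by
    rw [eq_top_iff, ← closure_tS_top, Subgroup.closure_le]
    rintro _ ⟨v, c, rfl⟩
    exact hall v c
  have hplane : ∀ i v, Supp {i} v → Wv H v := by
    intro i v hv
    rw [eq_add_of_supp hv]
    exact (hf i).span (he i) (by rw [spB_fV_right]; simp [eV]) _ _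
  have key : ∀ k, k ≤ m → ∀ v, Supp (Finset.univ.filter fun i : Fin m => (i : ℕ) < k) v → Wv H v := by
    intro k
    induction k with
    | zero =>
      intro _ v hv
      have : v = 0 := funext fun x => by
        rcases x with i | i
        exacts [(hv i (by simp)).1, (hv i (by simp)).2]
      rw [this]; exact Wv.zero
    | succ k ih =>
      intro hk v hv
      have hkm : k < m := hk
      set I := Finset.univ.filter fun i : Fin m => (i : ℕ) < k with hI
      set p : Fin m ⊕ Fin m → F := v (.inl ⟨k, hkm⟩) • eV ⟨k, hkm⟩ + v (.inr ⟨k, hkm⟩) • fV ⟨k, hkm⟩ with hp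
      have hpS : Supp {(⟨k, hkm⟩ : Fin m)} p := fun i hi => by
        have : i ≠ ⟨k, hkm⟩ := fun e => hi (by simp [e])
        simp [hp, eV, fV, Pi.single_apply, this]
      have hsS : Supp I (v - p) := fun i hi => by
        simp only [hI, Finset.mem_filter, Finset.mem_univ, true_and, not_lt] at hi
        rcases eq_or_lt_of_le hi with e | e
        · have : i = ⟨k, hkm⟩ := Fin.ext e.symm
          subst this
          simp [hp, eV, fV]
        · have hne : i ≠ ⟨k, hkm⟩ := fun e' => by rw [e'] at e; exact lt_irrefl _ e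
          obtain ⟨a, b⟩ := hv i (by simp only [Finset.mem_filter, Finset.mem_univ, true_and, not_lt]; omega)
          simp [hp, eV, fV, Pi.single_apply, hne, a, b]
      have hdis : Disjoint I {(⟨k, hkm⟩ : Fin m)} := by simp [hI]
      rcases eq_or_ne (v - p) 0 with h0 | h0
      · rw [sub_eq_zero.1 h0]; exact hplane _ _ hpS
      rcases eq_or_ne p 0 with hp0 | hp0
      · have := ih (by omega) _ hsS
        rwa [hp0, sub_zero] at this
      cases k with
      | zero =>
        exact absurd (funext fun x => by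
          rcases x with i | i
          exacts [(hsS i (by simp [hI])).1, (hsS i (by simp [hI])).2]) h0
      | succ k' =>
        obtain ⟨c, d, hc, hd, hl⟩ := hlink ⟨k', by omega⟩ ⟨k' + 1, hkm⟩ rfl
        have s1 : Supp I (c • eV (⟨k', by omega⟩ : Fin m) : Fin m ⊕ Fin m → F) := fun i hi => by
          have : i ≠ ⟨k', by omega⟩ := fun e => hi (by simp [hI, e])
          simp [eV, Pi.single_apply, this]
        have s2 : Supp {(⟨k' + 1, hkm⟩ : Fin m)} (d • eV (⟨k' + 1, hkm⟩ : Fin m) : Fin m ⊕ Fin m → F) :=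
          fun i hi => by
            have : i ≠ ⟨k' + 1, hkm⟩ := fun e => hi (by simp [e])
            simp [eV, Pi.single_apply, this]
        have hnz : ∀ (a : F) (i : Fin m), a ≠ 0 → a • (eV i : Fin m ⊕ Fin m → F) ≠ 0 := fun a i ha e => by
          have := congrFun e (.inl i)
          simp [eV, ha] at this
        obtain ⟨g₁, hg₁, e₁, f₁⟩ := exists_move (H := H) (ih (by omega)) s1 hsS (hnz _ _ hc) h0
        obtain ⟨g₂, hg₂, e₂, f₂⟩ := exists_move (H := H) (hplane _) s2 hpS (hnz _ _ hd) hp0
        have := hl.map (mul_mem hg₂ hg₁)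
        rw [coe_mul_mulVec, Matrix.mulVec_add, e₁, f₁ _ (fun u hu => supp_disjoint hdis.symm s2 hu), Matrix.mulVec_add,
          e₂, f₂ _ (fun u hu => supp_disjoint hdis hsS hu), sub_add_cancel] at this
        exact this
  intro v
  exact key m le_rfl v fun i hi => absurd (by simp) hi

end Closure

section Gens

/-- The signed cycle of the basis. -/
def cycMap : (Fin (n + 3) ⊕ Fin (n + 3) → F) →ₗ[F] (Fin (n + 3) ⊕ Fin (n + 3) → F) where
  toFun x := Sum.elim (Fin.cons (-x (.inr (Fin.last (n + 2)))) fun i => x (.inl i.castSucc))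
    (Fin.cons (x (.inl (Fin.last (n + 2)))) fun i => x (.inr i.castSucc))
  map_add' x y := by
    funext k
    rcases k with i | i <;> refine Fin.cases ?_ (fun j => ?_) i <;> simp [add_comm]
  map_smul' c x := by
    funext k
    rcases k with i | i <;> refine Fin.cases ?_ (fun j => ?_) i <;> simp

/-- The cycle as a symplectic matrix. -/
def cycSp : ↥(Matrix.symplecticGroup (Fin (n + 3)) F) :=
  mkSp cycMap fun u v => by
    rw [spB_sum, spB_sum, Fin.sum_univ_succ]
    conv_rhs => rw [Fin.sum_univ_castSucc]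
    simp [cycMap]
    ring

/-- A pair of blocks on the middle two coordinates. -/
def levMap (a b c d a' b' c' d' : F) :
    (Fin (n + 3) ⊕ Fin (n + 3) → F) →ₗ[F] (Fin (n + 3) ⊕ Fin (n + 3) → F) where
  toFun x := Sum.elim (fun i => if i = 1 then a * x (.inl 1) + b * x (.inl 2)
      else if i = 2 then c * x (.inl 1) + d * x (.inl 2) else x (.inl i))
    (fun i => if i = 1 then a' * x (.inr 1) + c' * x (.inr 2)
      else if i = 2 then b' * x (.inr 1) + d' * x (.inr 2) else x (.inr i))
  map_add' x y := by funext k; rcases k with i | i <;> simp <;> split_ifs <;> ring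
  map_smul' r x := by funext k; rcases k with i | i <;> simp <;> split_ifs <;> ring

theorem levMap_form {a b c d a' b' c' d' : F} (h11 : a' * a + b' * c = 1) (h12 : a' * b + b' * d = 0)
    (h21 : c' * a + d' * c = 0) (h22 : c' * b + d' * d = 1) (u v : Fin (n + 3) ⊕ Fin (n + 3) → F) :
    spB (n + 3) F (levMap a b c d a' b' c' d' u) (levMap a b c d a' b' c' d' v) = spB (n + 3) F u v := by
  have hne : (1 : Fin (n + 3)) ≠ 2 := one_ne_two
  rw [spB_sum, spB_sum, ← Finset.add_sum_erase _ _ (Finset.mem_univ (1 : Fin (n + 3))),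
    ← Finset.add_sum_erase _ _ (Finset.mem_erase.2 ⟨hne.symm, Finset.mem_univ (2 : Fin (n + 3))⟩)]
  conv_rhs =>
    rw [← Finset.add_sum_erase _ _ (Finset.mem_univ (1 : Fin (n + 3))),
      ← Finset.add_sum_erase _ _ (Finset.mem_erase.2 ⟨hne.symm, Finset.mem_univ (2 : Fin (n + 3))⟩)]
  rw [← add_assoc, ← add_assoc]
  congr 1
  · simp [levMap, hne, hne.symm]
    linear_combination (u (.inr 1) * v (.inl 1) - u (.inl 1) * v (.inr 1)) * h11 +
      (u (.inr 1) * v (.inl 2) - u (.inl 2) * v (.inr 1)) * h12 +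
      (u (.inr 2) * v (.inl 1) - u (.inl 1) * v (.inr 2)) * h21 +
      (u (.inr 2) * v (.inl 2) - u (.inl 2) * v (.inr 2)) * h22
  · refine Finset.sum_congr rfl fun i hi => ?_
    simp only [Finset.mem_erase] at hi
    simp [levMap, hi.1, hi.2.1]

theorem levMap_fix (a b c d a' b' c' d' : F) :
    levMap (n := n) a b c d a' b' c' d' (eV 0) = eV 0 := by
  funext k
  have h1 : (0 : Fin (n + 3)) ≠ 1 := by simp
  have h2 : (0 : Fin (n + 3)) ≠ 2 := zero_ne_two
  rcases k with i | i <;> simp [levMap, eV, Pi.single_apply, h1, h1.symm, h2, h2.symm] <;> split_ifs <;>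
    simp_all

theorem cycMap_eV (i : Fin (n + 2)) : cycMap (eV i.castSucc) = (eV i.succ : Fin (n + 3) ⊕ Fin (n + 3) → F) := by
  funext k
  rcases k with j | j <;> refine Fin.cases ?_ (fun l => ?_) j <;>
    simp [cycMap, eV, Pi.single_apply, Fin.succ_ne_zero, (Fin.castSucc_lt_last i).ne',
      (Fin.succ_ne_zero i).symm]

theorem cycMap_fV (i : Fin (n + 2)) : cycMap (fV i.castSucc) = (fV i.succ : Fin (n + 3) ⊕ Fin (n + 3) → F) := by
  funext k
  rcases k with j | j <;> refine Fin.cases ?_ (fun l => ?_) j <;>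
    simp [cycMap, fV, Pi.single_apply, Fin.succ_ne_zero, (Fin.castSucc_lt_last i).ne',
      (Fin.succ_ne_zero i).symm]

theorem cycMap_last : cycMap (eV (Fin.last (n + 2))) = (fV 0 : Fin (n + 3) ⊕ Fin (n + 3) → F) := by
  funext k
  rcases k with j | j <;> refine Fin.cases ?_ (fun l => ?_) j <;>
    simp [cycMap, eV, fV, Pi.single_apply, Fin.succ_ne_zero, (Fin.castSucc_lt_last _).ne]

variable [Fintype F]

/-- Additively closed sets stable under a generator are everything. -/
theorem mem_of_scaled {A : AddSubgroup F} {x : F} (hx : Subfield.closure ({x} : Set F) = ⊤) (h1 : (1 : F) ∈ A)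
    (hm : ∀ a ∈ A, x * a ∈ A) (t : F) : t ∈ A := by
  classical
  let R : Subring F :=
    { carrier := {r | ∀ a ∈ A, r * a ∈ A}
      mul_mem' := fun {r s} hr hs a ha => by rw [mul_assoc]; exact hr _ (hs a ha)
      one_mem' := fun a ha => by rwa [one_mul]
      add_mem' := fun {r s} hr hs a ha => by rw [add_mul]; exact A.add_mem (hr a ha) (hs a ha)
      zero_mem' := fun a _ => by rw [zero_mul]; exact A.zero_mem
      neg_mem' := fun {r} hr a ha => by rw [neg_mul]; exact A.neg_mem (hr a ha) }
  have hfield : ∀ r ∈ R, r⁻¹ ∈ R := by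
    intro r hr
    rcases eq_or_ne r 0 with rfl | h0
    · rw [_root_.inv_zero]; exact R.zero_mem
    have e : r ^ (Fintype.card F - 2) = r⁻¹ := by
      refine eq_inv_of_mul_eq_one_left ?_
      rw [← pow_succ]
      have h2 : Fintype.card F - 2 + 1 = Fintype.card F - 1 := by
        have := Fintype.one_lt_card (α := F)
        omega
      rw [h2]
      exact FiniteField.pow_card_sub_one_eq_one r h0
    rw [← e]; exact pow_mem hr _
  let K : Subfield F := { R with inv_mem' := hfield }
  have : Subfield.closure ({x} : Set F) ≤ K := Subfield.closure_le.2 (Set.singleton_subset_iff.2 (show x ∈ K from hm))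
  rw [hx] at this
  simpa using (this (Subfield.mem_top t) : ∀ a ∈ A, t * a ∈ A) 1 h1

/-- Two generators, from a suitable element of the Levi factor. -/
theorem two_of_levi {l : ↥(Matrix.symplecticGroup (Fin (n + 3)) F)} {u c d : F} (hl0 : l.1 *ᵥ eV 0 = eV 0) (N : ℕ)
    (hN : l ^ N = 1) (hNp : (N : F) ≠ 0) (hu : Subfield.closure ({u ^ 2} : Set F) = ⊤)
    (hle : (∀ t : F, t = 0 ∨ t = 1) ∨ l.1 *ᵥ eV 1 = u • eV 1)
    (hc : c ≠ 0) (hd : d ≠ 0) (hlink : ∃ k : Fin (n + 3), l.1 *ᵥ eV k = c • eV 1 + d • eV 2) :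
    ∃ a b : ↥(Matrix.symplecticGroup (Fin (n + 3)) F), Subgroup.closure ({a, b} : Set _) = ⊤ := by
  classical
  set T := tS (eV 0 : Fin (n + 3) ⊕ Fin (n + 3) → F) (1 : F) with hT
  refine ⟨T * l, cycSp, ?_⟩
  set H := Subgroup.closure ({T * l, cycSp} : Set ↥(Matrix.symplecticGroup (Fin (n + 3)) F)) with hH
  have haH : T * l ∈ H := Subgroup.subset_closure (Set.mem_insert _ _)
  have hgH : (cycSp : ↥(Matrix.symplecticGroup (Fin (n + 3)) F)) ∈ H :=
    Subgroup.subset_closure (Set.mem_insert_of_mem _ rfl)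
  have hcomm : Commute T l := by
    have := conj_tS l (eV 0) (1 : F)
    rw [hl0] at this
    exact ((mul_inv_eq_iff_eq_mul.1 this).symm)
  have hTH : T ∈ H := by
    have e := pow_mem haH N
    rw [hcomm.mul_pow, hN, mul_one, tS_pow, mul_one] at e
    obtain ⟨p, hp⟩ := CharP.exists F
    haveI := hp
    haveI : Fact p.Prime := ⟨CharP.char_is_prime F p⟩
    have hNdvd : ¬ p ∣ N := fun h => hNp ((CharP.cast_eq_zero_iff F p N).2 h)
    obtain ⟨j, -, hj⟩ := Nat.exists_mul_mod_eq_one_of_coprime
      ((Nat.Prime.coprime_iff_not_dvd (Fact.out (p := p.Prime))).2 hNdvd).symm (Fact.out (p := p.Prime)).one_lt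
    have e' := pow_mem e j
    rw [tS_pow, mul_comm, ← Nat.cast_mul] at e'
    have h1 : ((N * j : ℕ) : F) = 1 := by
      rw [← Nat.mod_add_div (N * j) p, hj, Nat.cast_add, Nat.cast_mul, CharP.cast_eq_zero F p, zero_mul, add_zero,
        Nat.cast_one]
    rwa [h1] at e'
  have hlH : l ∈ H := by
    have : l = T⁻¹ * (T * l) := by group
    rw [this]; exact mul_mem (inv_mem hTH) haH
  have hcyc : ∀ x, (cycSp : ↥(Matrix.symplecticGroup (Fin (n + 3)) F)).1 *ᵥ x = cycMap x := fun x =>
    mkSp_mulVec _ _ x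
  have he1 : cycMap (eV (0 : Fin (n + 3))) = (eV 1 : Fin (n + 3) ⊕ Fin (n + 3) → F) := by
    rw [← Fin.castSucc_zero, cycMap_eV, Fin.succ_zero_eq_one]
  have hT1 : tS (eV 1 : Fin (n + 3) ⊕ Fin (n + 3) → F) (1 : F) ∈ H := by
    rw [← he1, ← hcyc, ← conj_tS]
    exact mul_mem (mul_mem hgH hTH) (inv_mem hgH)
  let A : AddSubgroup F :=
    { carrier := {t | tS (eV 1 : Fin (n + 3) ⊕ Fin (n + 3) → F) t ∈ H}
      add_mem' := fun {a b} ha hb => by
        show tS _ (a + b) ∈ H
        rw [← tS_mul]; exact mul_mem ha hb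
      zero_mem' := by show tS _ (0 : F) ∈ H; rw [tS_zero]; exact one_mem H
      neg_mem' := fun {a} ha => by
        show tS _ (-a) ∈ H
        have : tS (eV 1 : Fin (n + 3) ⊕ Fin (n + 3) → F) (-a) = (tS (eV 1) a)⁻¹ :=
          eq_inv_of_mul_eq_one_left (by rw [tS_mul, neg_add_cancel, tS_zero])
        rw [this]; exact inv_mem ha }
  have hW1 : Wv H (eV 1 : Fin (n + 3) ⊕ Fin (n + 3) → F) := by
    rcases hle with hF2 | hle
    · intro t
      rcases hF2 t with rfl | rfl
      · rw [tS_zero]; exact one_mem H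
      · exact hT1
    · intro t
      refine mem_of_scaled (A := A) hu hT1 (fun a ha => ?_) t
      show tS _ (u ^ 2 * a) ∈ H
      rw [← tS_smul, ← hle, ← conj_tS]
      exact mul_mem (mul_mem hlH ha) (inv_mem hlH)
  have hW0 : Wv H (eV 0 : Fin (n + 3) ⊕ Fin (n + 3) → F) := by
    have := hW1.map (inv_mem hgH)
    rwa [← he1, ← hcyc, inv_mulVec_cancel] at this
  have he : ∀ i, Wv H (eV i : Fin (n + 3) ⊕ Fin (n + 3) → F) := by
    intro i
    induction i using Fin.induction with
    | zero => exact hW0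
    | succ i ih =>
      have := ih.map hgH
      rwa [hcyc, cycMap_eV] at this
  have hf : ∀ i, Wv H (fV i : Fin (n + 3) ⊕ Fin (n + 3) → F) := by
    intro i
    induction i using Fin.induction with
    | zero =>
      have := (he (Fin.last (n + 2))).map hgH
      rwa [hcyc, cycMap_last] at this
    | succ i ih =>
      have := ih.map hgH
      rwa [hcyc, cycMap_fV] at this
  obtain ⟨k, hk⟩ := hlink
  have hL : Wv H (c • eV 1 + d • eV 2 : Fin (n + 3) ⊕ Fin (n + 3) → F) := hk ▸ (he k).map hlH
  refine eq_top_of_links he hf ?_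
  have key : ∀ i : Fin (n + 2), Wv H (c • eV i.castSucc + d • eV i.succ : Fin (n + 3) ⊕ Fin (n + 3) → F) := by
    intro i
    induction i using Fin.induction with
    | zero =>
      have := hL.map (inv_mem hgH)
      have e : (c • eV 1 + d • eV 2 : Fin (n + 3) ⊕ Fin (n + 3) → F) =
          (cycSp : ↥(Matrix.symplecticGroup (Fin (n + 3)) F)).1 *ᵥ
            (c • eV (0 : Fin (n + 2)).castSucc + d • eV (0 : Fin (n + 2)).succ) := by
        rw [hcyc, map_add, map_smul, map_smul, cycMap_eV,
          show (0 : Fin (n + 2)).succ = (1 : Fin (n + 2)).castSucc from rfl, cycMap_eV]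
        rfl
      rwa [e, inv_mulVec_cancel] at this
    | succ i ih =>
      have := ih.map hgH
      rw [hcyc, map_add, map_smul, map_smul, cycMap_eV, ← Fin.castSucc_succ, cycMap_eV] at this
      simpa [Fin.castSucc_succ] using this
  intro i j hij
  have hi : (i : ℕ) < n + 2 := by have := j.isLt; omega
  refine ⟨c, d, hc, hd, ?_⟩
  rw [show i = (⟨i, hi⟩ : Fin (n + 2)).castSucc from rfl, show j = (⟨i, hi⟩ : Fin (n + 2)).succ from Fin.ext hij]
  exact key _

/-- Two generators of the symplectic group in dimension at least six. -/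
theorem two_generated_sp : ∃ a b : ↥(Matrix.symplecticGroup (Fin (n + 3)) F),
    Subgroup.closure ({a, b} : Set _) = ⊤ := by
  classical
  have hne : (1 : Fin (n + 3)) ≠ 2 := one_ne_two
  by_cases hF2 : ∀ t : F, t = 0 ∨ t = 1
  · have h2 : (2 : F) = 0 := by
      rcases hF2 2 with h | h
      · exact h
      · exact absurd (show (1 : F) = 0 by linear_combination h) one_ne_zero
    have hform := levMap_form (n := n) (a := (0 : F)) (b := 1) (c := 1) (d := 1) (a' := 1) (b' := 1) (c' := 1) (d' := 0)
      (by simp) (by linear_combination h2) (by simp) (by simp)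
    refine two_of_levi (l := mkSp _ hform) (u := (1 : F)) (c := (1 : F)) (d := (1 : F)) ?_ 3 ?_ ?_ ?_ (Or.inl hF2)
      one_ne_zero one_ne_zero ⟨2, ?_⟩
    · rw [mkSp_mulVec, levMap_fix]
    · refine sp_ext fun x => ?_
      rw [pow_succ, pow_succ, pow_one, coe_mul_mulVec, coe_mul_mulVec, mkSp_mulVec, mkSp_mulVec, mkSp_mulVec,
        Submonoid.coe_one, Matrix.one_mulVec]
      funext k
      rcases k with i | i <;> simp [levMap, hne, hne.symm] <;> split_ifs with a b <;>
        first | rfl | (subst a; linear_combination x (.inl 1) * h2) |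
          (subst a; linear_combination x (.inl 2) * h2) |
          (subst a; linear_combination x (.inr 1) * h2) |
          (subst a; linear_combination x (.inr 2) * h2) |
          (subst a; linear_combination (x (.inl 1) + x (.inl 2)) * h2) |
          (subst a; linear_combination (x (.inr 1) + x (.inr 2)) * h2) |
          (subst b; linear_combination x (.inl 1) * h2) |
          (subst b; linear_combination x (.inl 2) * h2) |
          (subst b; linear_combination x (.inr 1) * h2) |
          (subst b; linear_combination x (.inr 2) * h2) |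
          (subst b; linear_combination (x (.inl 1) + x (.inl 2)) * h2) |
          (subst b; linear_combination (x (.inr 1) + x (.inr 2)) * h2)
    · intro h
      have h3 : (3 : F) = 0 := by exact_mod_cast h
      exact one_ne_zero (show (1 : F) = 0 by linear_combination h3 - h2)
    · rw [eq_top_iff]
      intro t _
      rcases hF2 t with rfl | rfl
      · exact zero_mem _
      · exact one_mem _
    · rw [mkSp_mulVec]
      funext k
      rcases k with i | i <;> simp [levMap, eV, Pi.single_apply, hne, hne.symm] <;> split_ifs <;> simp_all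
  · push Not at hF2
    obtain ⟨x, hx0, hx1⟩ := hF2
    obtain ⟨v, hv⟩ := IsCyclic.exists_generator (α := Fˣ)
    have hvo : orderOf v = Fintype.card F - 1 := by
      rw [orderOf_eq_card_of_forall_mem_zpowers hv, Nat.card_eq_fintype_card, Fintype.card_units]
    have hv1 : (v : F) ≠ 1 := by
      intro e
      obtain ⟨i, hi⟩ := hv (Units.mk0 x hx0)
      exact hx1 (by simpa [show v = 1 from Units.ext e] using congrArg Units.val hi.symm)
    let L : Fˣ → ↥(Matrix.symplecticGroup (Fin (n + 3)) F) := fun w =>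
      mkSp _ (levMap_form (n := n) (a := (w : F)) (b := (w : F) - 1) (c := 0) (d := 1) (a' := (w : F)⁻¹)
        (b' := ((1 : F) - w) / w) (c' := 0) (d' := 1) (by simp) (by field_simp; ring) (by simp) (by simp))
    have hL : ∀ (w : Fˣ) z, (L w).1 *ᵥ z =
        levMap (w : F) ((w : F) - 1) 0 1 (w : F)⁻¹ (((1 : F) - w) / w) 0 1 z := fun w z => mkSp_mulVec _ _ z
    have hmul : ∀ w w', L w * L w' = L (w * w') := fun w w' => sp_ext fun z => by
      rw [coe_mul_mulVec, hL, hL, hL]
      funext k
      rcases k with i | i <;> simp [levMap, hne, hne.symm] <;> split_ifs <;> field_simp <;> ring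
    have hone : L 1 = 1 := sp_ext fun z => by
      rw [hL, Submonoid.coe_one, Matrix.one_mulVec]
      funext k
      rcases k with i | i <;> simp [levMap] <;> split_ifs with a b <;> simp_all
    have hpow : ∀ k : ℕ, L v ^ k = L (v ^ k) := fun k => by
      induction k with
      | zero => rw [pow_zero, pow_zero, hone]
      | succ k ih => rw [pow_succ, ih, hmul, ← pow_succ]
    refine two_of_levi (l := L v) (u := (v : F)) (c := (v : F) - 1) (d := (1 : F)) ?_ (Fintype.card F - 1) ?_ ?_ ?_
      (Or.inr ?_) (sub_ne_zero.2 hv1) one_ne_zero ⟨2, ?_⟩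
    · rw [hL, levMap_fix]
    · rw [hpow, ← hvo, pow_orderOf_eq_one, hone]
    · rw [Nat.cast_sub Fintype.card_pos, FiniteField.cast_card_eq_zero, Nat.cast_one, zero_sub]
      exact neg_ne_zero.2 one_ne_zero
    · exact closure_sq_top hvo
    · rw [hL]
      funext k
      rcases k with i | i <;> simp [levMap, eV, Pi.single_apply, hne, hne.symm] <;> split_ifs <;> simp_all
    · rw [hL]
      funext k
      rcases k with i | i <;> simp [levMap, eV, Pi.single_apply, hne, hne.symm] <;> split_ifs <;> simp_all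

end Gens

end Cfsg.Lib.Linear.TwoGen
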